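import Mathlib
import Cfsg.Agent.Lib.StdL.Syl
import Cfsg.Agent.Lib.WD.End
import Cfsg.Agent.Lib.W2.Tools

/-!
# Standard subgroups of type `M22`: strong closure
-/

set_option autoImplicit false

namespace CfsgLib.StdL

open Subgroup Cfsg CfsgLib.Tech
open CfsgLib.StdInt hiding cj mem_cj

variable {G : Type*} [Group G] [Finite G] {L E F A B : Subgroup G} {t σ ρ φ p : G}

namespace Pd

variable (h : Pd L E F A B t σ ρ φ p) (hS : IsSylowIn 2 (SS A B t p) (normalClosure (L : Set G)))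
include h hS

omit h in
theorem mem_of_sq {H : Subgroup G} {n : G} (hn : n ∈ normalClosure (L : Set G))
    (nn : n ∈ normalizer (SS A B t p : Set G)) (le : SS A B t p ≤ H) (h2 : n * n ∈ H) : n ∈ H := by
  obtain ⟨_, ⟨k, rfl⟩, hm⟩ := exists_odd_two n
  have := le (hS.le_of_normalizes (WD.Two.pgroup hm) (zpowers_le.2 (pow_mem hn _))
    (zpowers_le.2 (pow_mem nn _)) (mem_zpowers _))
  rwa [pow_succ, pow_mul, sq, mul_mem_cancel_left (pow_mem h2 k)] at this

theorem inv1 {x g : G} (hx : x ∈ TT A B p) (h2 : x * x = 1) (hg : g ∈ normalClosure (L : Set G))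
    (hy : g * x * g⁻¹ ∈ SS A B t p) : g * x * g⁻¹ ∈ TT A B p := by
  by_cases x1 : x = 1
  · simp [x1]
  refine (h.typ hx h2 hy).resolve_right ?_
  rintro ⟨y, yT, e⟩
  replace e : t * y * t⁻¹ = g * x * g⁻¹ := e
  obtain ⟨z, hz, z1, cz, -, uz, -⟩ := h.triPT.fix
  have zT : z ∈ TT A B p := h.U_le (mem_sup_left (mem_inf.1 hz).1)
  have z2 := h.tri.elZ z hz
  obtain ⟨c, hc, e1⟩ := h.cls1 z zT z2 z1 x hx h2 x1
  obtain ⟨d, hd, e2⟩ := h.cls1 y yT (conj_eq_one_iff.1 (by rw [← conj_mul (b := t), e, conj_mul, h2]; group))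
    (fun k => x1 (conj_eq_one_iff.1 (by rw [← e, k]; group))) z zT z2 z1
  have c1 : Cm z (SS A B t p) := cz.sup (h.cm_T2 zT)
  have c2 : Cm (t * z * t⁻¹) (SS A B t p) := c1.conj_nm h.t_SS.2
  have e3 : t * d * t⁻¹ * g * c * z * (t * d * t⁻¹ * g * c)⁻¹ = t * z * t⁻¹ := by
    calc _ = t * d * t⁻¹ * (g * (c * z * c⁻¹) * g⁻¹) * (t * d * t⁻¹)⁻¹ := by group
      _ = t * (d * y * d⁻¹) * t⁻¹ := by rw [e1, ← e]; group
      _ = _ := by rw [e2]
  obtain ⟨n, hn, nn, e4⟩ := W2.exists_normalizer_conj hS (a := z)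
    (mul_mem (mul_mem (normalClosure_normal.conj_mem d hd t) hg) hc)
    (fun s hs => mem_centralizer_singleton_iff.2 (c1 s hs).symm)
    (fun s hs => mem_centralizer_singleton_iff.2 (e3 ▸ (c2 s hs).symm))
  rw [e3] at e4
  have ne : t * z * t⁻¹ ≠ z := fun k => z1 (h.disT zT (k.symm ▸ zT))
  have c3 := c2.conj_nm (nm_iff.2 nn)
  have e5 : n * (t * z * t⁻¹) * n⁻¹ = z := by
    have m := conj_mem_of_mem_normalizer nn (h.T2_mem zT)
    have q : n * (t * z * t⁻¹) * n⁻¹ = n * t * z * (n * t)⁻¹ := by group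
    rcases h.typ zT z2 (q ▸ m) with k | ⟨w, wT, k⟩
    · exact (uz _ (q ▸ k) (c3.mono h.T1_le)).resolve_left fun k => z1 (by simpa using k)
    · replace k : t * w * t⁻¹ = n * (t * z * t⁻¹) * n⁻¹ := k.trans q.symm
      have c4 := (k ▸ c3).conj_nm h.t_SS.2
      rw [h.tt'] at c4
      rcases uz w wT (c4.mono h.T1_le) with k2 | k2 <;> rw [k2] at k
      · exact absurd (by simpa using k.symm) z1
      · exact absurd (by simpa using (e4.trans k).symm) ne
  have := mem_of_sq hS (H := centralizer {z}) hn nn (fun s hs => mem_centralizer_singleton_iff.2 (c1 s hs).symm)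
    (mem_centralizer_singleton_iff.2 (comm_of_conj (by
      calc _ = n * (n * z * n⁻¹) * n⁻¹ := by group
        _ = z := by rw [e4, e5])))
  rw [mem_centralizer_singleton_iff.1 this, mul_inv_cancel_right] at e4
  exact ne e4.symm

omit h hS in
theorem flip2 (h : Pd L E F A B t σ ρ φ p) {x : G} (sc : ∀ g ∈ normalClosure (L : Set G),
    g * x * g⁻¹ ∈ SS A B t p → g * x * g⁻¹ ∈ TT A B p) {g : G} (hg : g ∈ normalClosure (L : Set G))
    (hy : g * (t * x * t⁻¹) * g⁻¹ ∈ SS A B t p) : g * (t * x * t⁻¹) * g⁻¹ ∈ cj t (TT A B p) := by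
  have e : t⁻¹ * (g * (t * x * t⁻¹) * g⁻¹) * t = t⁻¹ * g * t * x * (t⁻¹ * g * t)⁻¹ := by group
  rw [mem_cj, e]
  exact sc _ (normalClosure_normal.conj_mem' g hg t) (e ▸ conj_mem_of_mem_normalizer' (nm_iff.1 h.t_SS.2) hy)

theorem el2 {Y : Subgroup G} (hY : Y ≤ TT A B p) (e : El Y) (c : Nat.card Y = 16) {g : G}
    (hg : g ∈ normalClosure (L : Set G)) (le : cj g (cj t Y) ≤ SS A B t p) :
    cj g (cj t Y) = cj t A ∨ cj g (cj t Y) = cj t B := by
  refine h.triPT2.el16 (h.cj_T ▸ cj_le_iff.2 ?_) ((e.cj t).cj g) (by rw [card_cj, card_cj, c])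
  rintro _ ⟨y, hy, rfl⟩
  exact h.flip2 (fun g hg => h.inv1 hS (hY hy) (e y hy) hg) hg (cj_le_iff.1 le _ ⟨y, hy, rfl⟩)

theorem wc : ∀ g ∈ normalClosure (L : Set G), cj g (cj t B) ≤ SS A B t p → cj g (cj t B) = cj t B := by
  intro g hg le
  have lA : A ≤ TT A B p := le_sup_left.trans h.U_le
  have lB : B ≤ TT A B p := le_sup_right.trans h.U_le
  refine (h.el2 hS lB h.tri.elF h.tri.cF hg le).resolve_left fun e => ?_
  have nB : SS A B t p ≤ normalizer (cj t B : Set G) := fun s hs => nm_iff.1 (h.nm4 hs).2.2.2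
  obtain ⟨n, hn, nn, e1⟩ := WD.burn hS nB hg (e ▸ fun s hs => nm_iff.1 (h.nm4 hs).2.2.1)
  rw [e] at e1
  have e2 := (h.el2 hS lA h.tri.elE h.tri.cE hn (cj_le_iff.2 fun x hx => conj_mem_of_mem_normalizer nn
    (le_sup_right (a := TT A B p) (cj_mono t lA hx)))).resolve_left fun k =>
      h.triPT2.ne (cj_injective n (k.trans e1.symm))
  have := mem_of_sq hS hn nn nB (by rw [mem_normalizer_iff_cj, cj_mul, e1, e2])
  exact h.triPT2.ne (e1.symm.trans (mem_normalizer_iff_cj.1 this))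

end Pd

/-- END1 -/
theorem Pd.sc (h : Pd L E F A B t σ ρ φ p) (hS : IsSylowIn 2 (SS A B t p) (normalClosure (L : Set G))) :
    ∀ x ∈ TT A B p, ∀ g ∈ normalClosure (L : Set G), g * x * g⁻¹ ∈ SS A B t p → g * x * g⁻¹ ∈ TT A B p := by
  have lB : B ≤ TT A B p := le_sup_right.trans h.U_le
  set C := normalClosure (L : Set G) ⊓ centralizer (cj t B : Set G) with hC
  have nC : normalClosure (L : Set G) ⊓ normalizer (cj t B : Set G) ≤ normalizer (C : Set G) := fun x hx => by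
    rw [mem_normalizer_iff_cj, hC, cj_inf, cj_centralizer, mem_normalizer_iff_cj.1 hx.2, cj_eq_of_normal]
  have sC : TT A B p ≤ WD.sqc C :=
    h.perf.trans (WD.sqc_mono (inf_le_inf_left _ (centralizer_le (cj_mono t lB))))
  have cm : ∀ x ∈ TT A B p, ∀ f ∈ B, Cm (x * (t * f * t⁻¹)) (cj t B) := fun x hx f hf =>
    ((h.cm_T2 hx).mono (cj_mono t lB)).mul (Cm.conj (fun y hy => h.tri.elF.comm hf hy) t)
  have key : ∀ f ∈ B, t * f * t⁻¹ ∈ WD.sqc C → f = 1 := fun f hf hs => by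
    have h1 := (hS.of_le (le_inf hS.le fun s hs => nm_iff.1 (h.nm4 hs).2.2.2)
      inf_le_left).inf_of_le_normalizer nC
    rw [inf_eq_right.2 (inf_le_inf_left _ (centralizer_le_normalizer _))] at h1
    have h2 : WD.sqc (SS A B t p ⊓ C) ≤ TT A B p := (closure_le _).2 (by
      rintro _ ⟨x, ⟨hx, -, hc⟩, rfl⟩
      obtain ⟨a, ha, b, hb, rfl⟩ := h.mem_SS.1 hx
      have c1 := (((h.cm_T2 ha).mono (cj_mono t lB)).inv.mul (cm_iff.2 hc)).conj t
      rw [inv_mul_cancel_left, h.tt', cj_cj_sq h.tt] at c1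
      have h3 : b ∈ B := h.tri.symm.cent (sup_comm A B ▸ h.triPT.cZ' hb (c1.mono inf_le_right)) c1
      rw [h.mul_pair hb ha, h.tri.elF b h3]
      simpa using mul_mem ha ha)
    exact h.disT (lB hf) (h2 (WD.End.mem_sqc_syl h1 ⟨h.T2_mem (lB hf), WD.sqc_le _ hs⟩
      (fun c hc => (hc.2 _ ⟨f, hf, rfl⟩).symm) hs))
  intro x hx
  obtain ⟨k, hk⟩ := isPGroup_iff_mem.1 h.triPT.two_TT x hx
  induction k generalizing x with
  | zero => intro g _ _; rw [pow_zero, pow_one] at hk; simp [hk]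
  | succ k ih =>
    intro g hg hy
    have h1 := ih (x * x) (mul_mem hx hx) (by rw [← sq, ← pow_mul, ← pow_succ', hk]) g hg
      (by rw [← conj_mul]; exact mul_mem hy hy)
    obtain ⟨a, ha, b, hb, e1⟩ := h.mem_SS.1 hy
    rw [← conj_mul, e1, h.mul_pair hb ha, mul_mem_cancel_left (mul_mem ha ha)] at h1
    obtain ⟨c, hc, h2, h3⟩ := h.mv b hb (h.disT (mul_mem hb hb) h1)
    have c1 := h2.conj t
    rw [cj_cj_sq h.tt] at c1
    have h4 : t * c * t⁻¹ * g * x * (t * c * t⁻¹ * g)⁻¹ = a * (t * (c * b * c⁻¹) * t⁻¹) := by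
      calc _ = t * c * t⁻¹ * (g * x * g⁻¹) * (t * c * t⁻¹)⁻¹ := by group
        _ = _ := by rw [e1, ← mul_assoc, (c1 a ha).eq]; group
    obtain ⟨m, hm, hn, e3⟩ := WD.wc_conj hS ((cj_mono t lB).trans le_sup_right) (h.wc hS) (d := x)
      (mul_mem (normalClosure_normal.conj_mem c hc t) hg) ((h.cm_T2 hx).mono (cj_mono t lB))
      (h4 ▸ cm a ha _ h3)
    have h5 := WD.conj_mem_sqc (nC ⟨hm, hn⟩) (sC hx)
    rw [e3, h4, mul_mem_cancel_left (sC ha)] at h5
    rw [e1, conj_eq_one_iff.1 (key _ h3 h5)]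
    simpa using ha

/-- END2 -/
theorem Pd.fin (h : Pd L E F A B t σ ρ φ p) (hS : IsSylowIn 2 (SS A B t p) (normalClosure (L : Set G)))
    (hs : IsSimpleGroup (normalClosure (L : Set G))) : False := by
  have sc1 := h.sc hS
  have h1 := Agent.S2767.result hS.toSylow ((TT A B p).subgroupOf _) ((cj t (TT A B p)).subgroupOf _)
    ⟨fun x hx => h.T1_le hx, fun x hx g hy => sc1 x hx g g.2 hy⟩
    ⟨fun x hx => mem_sup_right hx, fun x hx g hy => by
      obtain ⟨y, yT, e⟩ := mem_subgroupOf.1 hx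
      replace e : t * y * t⁻¹ = x := e
      change (g : G) * x * (g : G)⁻¹ ∈ cj t (TT A B p)
      rw [← e]
      exact h.flip2 (sc1 y yT) g.2 (e ▸ hy)⟩ fun x hx y hy => Subtype.ext (h.cm_T2 hx _ hy)
  have h2 : (TT A B p).subgroupOf (normalClosure (L : Set G)) ⊓ (cj t (TT A B p)).subgroupOf _ = ⊥ :=
    le_bot_iff.1 fun x hx => by
      obtain ⟨y, yT, e⟩ := mem_subgroupOf.1 hx.2
      replace e : t * y * t⁻¹ = x := e
      rw [h.disT yT (e ▸ hx.1)] at e
      exact Subtype.ext (by simpa using e.symm)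
  rw [h2, normalClosure_eq_self ⊥, bot_sup_eq] at h1
  have key : ∀ N : Subgroup (normalClosure (L : Set G)), N.Normal → ∀ x ∈ N, x ≠ 1 → N = ⊤ := fun N hN x hx x1 =>
    hN.eq_bot_or_eq_top.resolve_left fun e => x1 (mem_bot.1 (e ▸ hx))
  obtain ⟨z, hz, z1⟩ := h.tri.exZ
  have zT : z ∈ TT A B p := h.U_le (mem_sup_left (mem_inf.1 hz).1)
  rw [key _ normalClosure_normal ⟨z, h.leX zT⟩ (subset_normalClosure zT) fun e => z1 (congrArg Subtype.val e),
    key _ normalClosure_normal ⟨_, h.SS_le (h.T2_mem zT)⟩ (subset_normalClosure (mem_subgroupOf.2 (conj_mem_cj.2 zT))) fun e =>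
      z1 (conj_eq_one_iff.1 (congrArg Subtype.val e))] at h1
  obtain ⟨e, he, e1⟩ := h.tri.exE
  obtain ⟨f, hf, e2⟩ := h.tri.onto he e1 hz
  have := h1 (commutator_mem_commutator (mem_top ⟨e, h.le_X (mem_sup_left he)⟩)
    (mem_top ⟨f, h.le_X (mem_sup_right hf)⟩))
  have o := odd_of_mem (Core.odd_card_oddCore (normalClosure (L : Set G))) this
  rw [← Subgroup.orderOf_coe] at o
  exact z1 (eq_one_of_odd_sq (e2 ▸ o) (h.tri.elZ z hz))

end CfsgLib.StdL
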