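import Mathlib
import Cfsg.Agent.Lib.StdL.UtA1

/-!
# Standard subgroups of type `M22`: the structure of the double
-/

set_option autoImplicit false
set_option linter.unusedSectionVars false

namespace CfsgLib.StdL

open Subgroup Cfsg CfsgLib.Tech
open CfsgLib.StdInt hiding cj mem_cj

variable {G : Type*} [Group G] [Finite G] {L E F V : Subgroup G} {t σ ρ φ a e f x y : G}

local notation "cn" => MulAut.conj

namespace Dv

variable (D : Dv L E F V t σ ρ φ)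
include D

theorem cm_mem (hx : x ∈ V) (hy : y ∈ V) : x * y * x⁻¹ * y⁻¹ ∈ E := by
  have h1 := D.p.sq _ (mul_mem hx hy)
  have h2 := D.p.sq _ hx
  have h3 := D.p.sq _ hy
  have c := (D.cE (inv_mem hy) (inv_mem h2)).eq
  have : x * y * x⁻¹ * y⁻¹ = x * y * (x * y) * ((x * x)⁻¹ * (y * y)⁻¹) := by
    calc _ = x * y * (x * y) * (y⁻¹ * (x * x)⁻¹ * y⁻¹) := by group
      _ = _ := by rw [c]; group
  rw [this]
  exact mul_mem h1 (mul_mem (inv_mem h2) (inv_mem h3))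

theorem comm_s (hx : x ∈ V) : Commute x (cn σ x) := by
  have hw := D.ms hx
  obtain ⟨e, he, h1⟩ := D.of_tau (mul_mem hx hw) (D.ms hw) (by
    rw [D.tau_mul hx hw, D.tau_s, D.tau_s, D.tau_s, D.tor.u_sqE (D.tE hx)])
  have hc := D.cm_mem hx hw
  have h2 : cn σ (x * cn σ x * x⁻¹ * (cn σ x)⁻¹) = x * cn σ x * x⁻¹ * (cn σ x)⁻¹ := by
    rw [map_mul, map_mul, map_mul, map_inv, map_inv, h1, ← D.h.elE.inv hc]
    generalize cn σ x = w at hw
    calc _ = w * x * w * (e * w⁻¹ * e⁻¹) * w⁻¹ * x⁻¹ := by group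
      _ = _ := by rw [conj_of_comm (D.cE (inv_mem hw) he).symm]; group
  have h3 := D.h.fσ _ hc (cn_eq.1 h2)
  rwa [mul_inv_eq_one, mul_inv_eq_iff_eq_mul] at h3

theorem comm_four (hx : x ∈ V) (hy : y ∈ V) (h1 : tau t y = 1 ∨ tau t y = tau t x ∨ tau t y = cn σ (tau t x) ∨
    tau t y = tau t x * cn σ (tau t x)) : Commute x y := by
  rcases h1 with h1 | h1 | h1 | h1
  · exact D.cE hx (D.ker hy h1)
  · obtain ⟨e, he, rfl⟩ := D.of_tau hx hy h1.symm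
    exact (Commute.refl x).mul_right (D.cE hx he)
  · obtain ⟨e, he, rfl⟩ := D.of_tau (D.ms hx) hy (by rw [D.tau_s, h1])
    exact (D.comm_s hx).mul_right (D.cE hx he)
  · obtain ⟨e, he, rfl⟩ := D.of_tau (mul_mem hx (D.ms hx)) hy (by rw [D.tau_mul hx (D.ms hx), D.tau_s, h1])
    exact ((Commute.refl x).mul_right (D.comm_s hx)).mul_right (D.cE hx he)

theorem tau_A (c : cn ρ a = a) : Commute ρ (tau t a) := cn_eq.1 (by rw [← D.tau_r, c])

theorem tau_Z (hx : x ∈ V) (c : cn σ x = cn ρ x) : tau t x ∈ E ⊓ F :=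
  ⟨D.tE hx, D.tor.fδ (D.tE hx) ((D.tau_s x).symm.trans (by rw [c, D.tau_r]; rfl))⟩

theorem comm_AA (hx : x ∈ V) (hy : y ∈ V) (c : cn ρ x = x) (c' : cn ρ y = y) : Commute x y := by
  by_cases h1 : tau t x = 1
  · exact (D.cE hy (D.ker hx h1)).symm
  · exact D.comm_four hx hy (D.tor.u_fourA (D.tE hx) (D.tau_A c) h1 (D.tE hy) (D.tau_A c'))

theorem comm_ZZ (hx : x ∈ V) (hy : y ∈ V) (c : cn σ x = cn ρ x) (c' : cn σ y = cn ρ y) : Commute x y := by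
  by_cases h1 : tau t x = 1
  · exact (D.cE hy (D.ker hx h1)).symm
  · exact D.comm_four hx hy (D.tor.u_fourZ (D.tau_Z hx c) h1 _ (D.tau_Z hy c'))

/-- the norm of a commutator -/
theorem norm_cm {a x1 x2 b b1 b2 : G} (ha : a ∈ V) (hx : x ∈ V) (h1 : x1 ∈ V) (hb1 : b1 ∈ E) (hb2 : b2 ∈ E)
    (hn : x * x1 * x2 ∈ E) (e0 : cn a x = b * x) (e1 : cn a x1 = b1 * x1) (e2 : cn a x2 = b2 * x2) :
    b * b1 * b2 = 1 := by
  have h := cn_eq.2 (D.cE ha hn)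
  rw [map_mul, map_mul, e0, e1, e2] at h
  refine mul_right_cancel (b := x * x1 * x2) ?_
  rw [one_mul]
  refine Eq.trans ?_ h
  calc _ = b * b1 * (b2 * (x * x1)) * x2 := by group
    _ = b * (b1 * x) * x1 * (b2 * x2) := by rw [← (D.cE (mul_mem hx h1) hb2).eq]; group
    _ = _ := by rw [← (D.cE hx hb1).eq]; group

theorem comm_AZ (ha : a ∈ V) (hx : x ∈ V) (c : cn ρ a = a) (c' : cn σ x = cn ρ x) : Commute a x := by
  obtain ⟨b, hb, e0⟩ : ∃ b ∈ E, cn a x = b * x := ⟨_, D.cm_mem ha hx, (inv_mul_cancel_right _ _).symm⟩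
  have tr : ∀ (α : MulAut G) (u v w : G), cn u v = w * v → cn (α u) (α v) = α w * α v := fun α u v w e => by
    rw [← map_mul, ← e]; simp only [MulAut.conj_apply, map_mul, map_inv]
  have h1 : b * cn ρ b * cn ρ (cn ρ b) = 1 := by
    have e1 := tr (cn ρ) _ _ _ e0
    have e2 := tr (cn ρ) _ _ _ e1
    rw [c] at e1
    rw [c, c] at e2
    exact D.norm_cm ha hx (D.mr hx) (D.h.ρE _ hb) (D.h.ρE _ (D.h.ρE _ hb))
      (by rw [D.rr_eq hx c', ← c']; exact D.nE hx) e0 e1 e2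
  obtain ⟨a0, ha0, c0, z, hz, rfl⟩ := D.tor.decE hb
  have a1 : a0 = 1 := by
    have n := D.tor.symm.u_normE hz.2
    have k := fun y (hy : y ∈ E) => (D.h.elE.comm hy ha0).eq
    rw [map_mul, map_mul, cn_eq.2 c0, cn_eq.2 c0] at h1
    refine eq_one_of_cube (D.h.elE _ ha0) ?_
    calc _ = a0 * a0 * a0 * (z * cn ρ z * cn ρ (cn ρ z)) := by rw [n, mul_one]
      _ = a0 * a0 * (a0 * (z * cn ρ z)) * cn ρ (cn ρ z) := by group
      _ = a0 * (a0 * z) * cn ρ z * (a0 * cn ρ (cn ρ z)) := by rw [← k _ (mul_mem hz.1 (D.h.ρE.cn hz.1))]; group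
      _ = _ := by rw [← k _ hz.1, ← h1]; group
  rw [a1, one_mul] at e0
  have f0 : cn x a = z * a := by
    have : a * x * a⁻¹ = z * x := e0
    calc x * a * x⁻¹ = z⁻¹ * (z * x) * a * x⁻¹ := by group
      _ = _ := by rw [← this, D.h.elE.inv hz.1]; group
  have tr' : ∀ u ∈ V, cn ρ u = u → cn x u = z * u → cn x (cn σ u) = z * cn σ u := fun u hu c1 e => by
    have e1 := tr (cn σ) _ _ _ e
    rw [c', show cn σ z = cn ρ z from D.h.eqZ z hz, ← D.r_s hu c1] at e1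
    refine (cn ρ).injective ?_
    rw [map_mul, ← e1]
    simp only [MulAut.conj_apply]
    group
  have f1 := tr' a ha c f0
  have f2 := tr' _ (D.ms ha) (D.r_s ha c) f1
  rw [eq_one_of_cube (D.h.elE _ hz.1) (D.norm_cm hx ha (D.ms ha) hz.1 hz.1 (D.nE ha) f0 f1 f2), one_mul] at e0
  exact cn_eq.1 e0

theorem dec (hx : x ∈ V) : ∃ a ∈ V, cn ρ a = a ∧ ∃ y ∈ V, cn σ y = cn ρ y ∧ x = a * y := by
  obtain ⟨a0, ha0, c0, z0, hz0, e0⟩ := D.tor.decE (D.tE hx)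
  obtain ⟨a, ha, c1, rfl⟩ := D.liftA ha0 c0
  obtain ⟨y, hy, c2, rfl⟩ := D.liftZ hz0
  obtain ⟨e, he, rfl⟩ := D.of_tau (mul_mem ha hy) hx (by rw [D.tau_mul ha hy, e0])
  obtain ⟨a1, ha1, c3, z, hz, rfl⟩ := D.tor.decE he
  refine ⟨a * a1, mul_mem ha (D.p.le ha1), by rw [map_mul, c1, cn_eq.2 c3], y * z, mul_mem hy (D.p.le hz.1),
    by rw [map_mul, map_mul, c2, show cn σ z = cn ρ z from D.h.eqZ z hz], ?_⟩
  calc _ = a * (y * a1) * z := by group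
    _ = _ := by rw [(D.cE hy ha1).eq]; group

theorem comm (hx : x ∈ V) (hy : y ∈ V) : Commute x y := by
  obtain ⟨a, ha, c1, u, hu, c2, rfl⟩ := D.dec hx
  obtain ⟨a', ha', c3, u', hu', c4, rfl⟩ := D.dec hy
  exact ((D.comm_AA ha ha' c1 c3).mul_right (D.comm_AZ ha hu' c1 c4)).mul_left
    ((D.comm_AZ ha' hu c3 c2).symm.mul_right (D.comm_ZZ hu hu' c2 c4))

theorem fσ : Fpf σ V := by
  intro x hx c
  have h1 := D.nE hx
  rw [cn_eq.2 c, cn_eq.2 c] at h1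
  exact D.h.fσ x ((mul_mem_cancel_left (D.p.sq x hx)).1 h1) c

theorem nB (hf : f ∈ F) (c : Commute σ f) : Nm f V :=
  D.nm_of (D.cLt (D.h.FL hf)) (D.h.toTri.nmE (mem_sup_right hf)) fun x _ => cn_comm' c x

theorem tau_cm (hf : f ∈ F) (c : Commute σ f) (hx : x ∈ V) :
    tau t (cn f x * x⁻¹) = cn f (tau t x) * (tau t x)⁻¹ := by
  rw [D.tau_mul ((D.nB hf c).cn hx) (inv_mem hx), D.tau_inv hx, D.h.elE.inv (D.tE hx), tau_cn (D.cLt (D.h.FL hf))]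

theorem cm_Z (hf : f ∈ F) (c : Commute σ f) (hx : x ∈ V) (c' : cn σ x = cn ρ x) : cn f x * x⁻¹ ∈ E ⊓ F := by
  have hc : cn f x * x⁻¹ ∈ E := D.ker (mul_mem (D.nB hf c x hx) (inv_mem hx)) (by
    rw [D.tau_cm hf c hx, cn_eq.2 (D.h.elF.comm hf (D.tau_Z hx c').2), mul_inv_cancel])
  have h1 : cn f (cn f x * x⁻¹) = cn f x * x⁻¹ := by
    rw [map_mul, map_inv, cn_cn (D.h.elF f hf), ← D.h.elE.inv hc, mul_inv_rev, inv_inv]
  refine ⟨hc, (D.h.nd _ hc f hf (cn_eq.1 h1).symm).elim id fun h2 => ?_⟩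
  rw [D.h.fσ f h2 c, map_one, MulAut.one_apply, mul_inv_cancel]
  exact F.one_mem

theorem r_B (hf : f ∈ F) (c : Commute σ f) : Commute σ (cn ρ f) :=
  cn_eq.1 (by rw [D.tor.u_sr (D.h.FL hf), cn_eq.2 c])

theorem comm_rB (hf : f ∈ F) (c : Commute σ f) (hx : x ∈ V) (c' : cn σ x = cn ρ x) :
    Commute (cn ρ (cn ρ f)) (cn ρ x) := by
  have h1 : cn σ (cn f x * x⁻¹) = cn ρ (cn f x * x⁻¹) := D.h.eqZ _ (D.cm_Z hf c hx c')
  simp only [MulAut.conj_apply f, map_mul, map_inv, cn_eq.2 c, c', mul_left_inj] at h1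
  rw [D.tor.symm.u_sqE hf, ← cn_eq, map_mul, MulAut.mul_apply, MulAut.conj_apply (cn ρ f), ← h1]
  exact cn_cn (D.h.elF f hf) _

theorem cF (hx : x ∈ V) (c' : cn σ x = cn ρ x) : Cm x F := by
  intro f hf
  obtain ⟨b, hb, c, z, hz, rfl⟩ := D.tor.symm.decE hf
  refine Commute.mul_right ?_ (D.cE hx hz.2)
  have h1 := D.h.ρF b hb
  have := D.comm_rB (D.h.ρF _ h1) (D.r_B h1 (D.r_B hb c)) hx c'
  change Commute (cn ρ (cn ρ (cn ρ (cn ρ b)))) _ at this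
  rw [D.tor.symm.u_s3 (D.h.FL hb)] at this
  exact (this.of_map (cn ρ).injective).symm

theorem cm_A (hf : f ∈ F) (c : Commute σ f) (ha : a ∈ V) (c' : cn ρ a = a) :
    ∃ x ∈ V, cn σ x = cn ρ x ∧ cn f a = x * a := by
  have hc : cn f a * a⁻¹ ∈ V := mul_mem (D.nB hf c a ha) (inv_mem ha)
  obtain ⟨x, hx, c1, e1⟩ := D.liftZ (e := tau t (cn f a * a⁻¹)) (by
    rw [D.tau_cm hf c ha, inf_comm]; exact D.h.toTri.symm.com f hf _ (D.tE ha))
  obtain ⟨e, he, e2⟩ := D.of_tau hx hc e1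
  obtain ⟨a0, ha0, c0, z, hz, rfl⟩ := D.tor.decE he
  have hy : x * z ∈ V := mul_mem hx (D.p.le hz.1)
  have c2 : cn σ (x * z) = cn ρ (x * z) := by rw [map_mul, map_mul, c1, show cn σ z = cn ρ z from D.h.eqZ z hz]
  have e3 : cn f a = x * z * a0 * a := by
    rw [mul_assoc x, (D.h.elE.comm hz.1 ha0).eq, ← e2, inv_mul_cancel_right]
  generalize x * z = y at hy c2 e3
  refine ⟨y, hy, c2, ?_⟩
  have tr : ∀ u w : G, cn u a = w * a0 * a → cn (cn ρ u) a = cn ρ w * a0 * a := fun u w e => by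
    have := congrArg (cn ρ) e
    simpa only [MulAut.conj_apply u, MulAut.conj_apply (cn ρ u), map_mul, map_inv, c', cn_eq.2 c0] using this
  have e4 := tr _ _ e3
  have e5 := tr _ _ e4
  have hz' : cn f a0 * a0⁻¹ ∈ F ⊓ E := D.h.toTri.symm.com f hf _ ha0
  have c3 : cn σ (cn ρ y) = cn ρ (cn ρ y) := by rw [D.sr hy, c2]
  rw [D.tor.symm.u_sqE hf, map_mul, MulAut.mul_apply, e4, map_mul, map_mul, e3,
    cn_eq.2 (D.cF (D.mr hy) c3 f hf).symm, ← inv_mul_cancel_right (cn f a0) a0] at e5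
  have c4 := D.h.eqZ _ ⟨hz'.2, hz'.1⟩
  generalize cn f a0 * a0⁻¹ = z' at e5 c4
  have e6 : a0 = (cn ρ (cn ρ y))⁻¹ * (cn ρ y * z' * y) := by
    rw [eq_inv_mul_iff_mul_eq]
    refine mul_right_cancel (b := a) (e5.symm.trans ?_)
    calc _ = cn ρ y * z' * (a0 * y) * a0 * a := by group
      _ = cn ρ y * z' * y * (a0 * a0) * a := by rw [← (D.cE hy ha0).eq]; group
      _ = _ := by rw [D.h.elE _ ha0, mul_one]
  have e7 : cn σ a0 = cn ρ a0 := by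
    rw [e6]
    simp only [map_mul, map_inv]
    rw [D.sr (D.mr hy), c3, c2, show cn σ z' = cn ρ z' from c4]
  rw [e3, D.h.fσ a0 ha0 (cn_eq.1 (e7.trans (cn_eq.2 c0))), mul_one]

theorem comF (hx : x ∈ V) (hf : f ∈ F) : cn σ (x * f * x⁻¹ * f⁻¹) = cn ρ (x * f * x⁻¹ * f⁻¹) := by
  obtain ⟨a, ha, c1, u, hu, c2, rfl⟩ := D.dec hx
  obtain ⟨b, hb, c, z, hz, rfl⟩ := D.tor.symm.decE hf
  obtain ⟨y, hy, c3, e⟩ := D.cm_A hb c ha c1
  have : a * u * (b * z) * (a * u)⁻¹ * (b * z)⁻¹ = y⁻¹ := by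
    calc _ = a * (u * (b * z) * u⁻¹) * a⁻¹ * (b * z)⁻¹ := by group
      _ = a * b * (z * a⁻¹ * z⁻¹) * b⁻¹ := by rw [conj_of_comm (D.cF hu c2 _ hf)]; group
      _ = a * (cn b a)⁻¹ := by rw [conj_of_comm (D.cE (inv_mem ha) hz.2).symm, MulAut.conj_apply]; group
      _ = _ := by rw [e]; group
  rw [this, map_inv, map_inv, c3]

theorem sq_cm (hf : f ∈ F) (hx : x ∈ V) (c : cn σ x = cn ρ x) (e : cn f a = x * a) : x * x = 1 := by
  have c1 := D.cF hx c f hf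
  have h1 : a * f⁻¹ * a⁻¹ = f⁻¹ * x := by
    rw [eq_inv_mul_iff_mul_eq, ← mul_inv_eq_iff_eq_mul.2 e, MulAut.conj_apply]; group
  have h2 : f⁻¹ * x * (f⁻¹ * x) = 1 := by
    rw [← h1, D.h.elF.inv hf, show a * f * a⁻¹ * (a * f * a⁻¹) = a * (f * f) * a⁻¹ by group, D.h.elF f hf]; group
  rwa [D.h.elF.inv hf, c1.symm.symm.mul_mul_mul_comm, D.h.elF f hf, one_mul] at h2

theorem el : El V := by
  obtain ⟨f, hf, c, f1⟩ := D.tor.symm.u_exA
  have hA : ∀ a ∈ V, cn ρ a = a → a * a = 1 := fun a ha c1 => by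
    obtain ⟨y, hy, c3, e⟩ := D.cm_A hf c ha c1
    have h1 : cn f (a * a) = a * a := by
      rw [map_mul, e, (D.comm ha hy).mul_mul_mul_comm, D.sq_cm hf hy c3 e, one_mul]
    by_contra h2
    exact D.tor.u_nd (D.p.sq a ha) (cn_eq.1 (by rw [map_mul, c1])) h2 hf c f1 (cn_eq.1 h1).symm
  obtain ⟨a0, ha0, c0, a1⟩ := D.tor.u_exA
  obtain ⟨a, ha, c1, rfl⟩ := D.liftA ha0 c0
  obtain ⟨y, hy, c3, e⟩ := D.cm_A hf c ha c1
  have y1 : tau t y ≠ 1 := fun h1 => by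
    have := D.tau_cm hf c ha
    rw [e, mul_inv_cancel_right, h1, eq_comm, mul_inv_eq_one] at this
    exact D.tor.u_nd ha0 c0 a1 hf c f1 (cn_eq.1 this).symm
  have y2 := D.sq_cm hf hy c3 e
  have y3 : cn σ y * cn σ y = 1 := by rw [← map_mul, y2, map_one]
  have k : ∀ u ∈ V, ∀ v ∈ V, u * u = 1 → v * v = 1 → u * v * (u * v) = 1 := fun u hu v hv h1 h2 => by
    rw [(D.comm hv hu).mul_mul_mul_comm, h1, h2, one_mul]
  intro v hv
  obtain ⟨a', ha', c4, u, hu, c2, rfl⟩ := D.dec hv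
  refine k _ ha' _ hu (hA _ ha' c4) ?_
  rcases D.tor.u_fourZ (D.tau_Z hy c3) y1 _ (D.tau_Z hu c2) with h1 | h1 | h1 | h1
  · exact D.h.elE _ (D.ker hu h1)
  · obtain ⟨e, he, rfl⟩ := D.of_tau hy hu h1.symm
    exact k _ hy _ (D.p.le he) y2 (D.h.elE _ he)
  · obtain ⟨e, he, rfl⟩ := D.of_tau (D.ms hy) hu (by rw [D.tau_s, h1])
    exact k _ (D.ms hy) _ (D.p.le he) y3 (D.h.elE _ he)
  · obtain ⟨e, he, rfl⟩ := D.of_tau (mul_mem hy (D.ms hy)) hu (by rw [D.tau_mul hy (D.ms hy), D.tau_s, h1])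
    exact k _ (mul_mem hy (D.ms hy)) _ (D.p.le he) (k _ hy _ (D.ms hy) y2 y3) (D.h.elE _ he)

theorem nm {g : G} (c : Commute g t) (n : Nm g E) : Nm g V := by
  intro v hv
  refine (D.p.half _ (D.rr_cn c n (D.rr hv))).elim id fun h1 => ?_
  have h2 := D.el _ h1
  have h3 : cn g v * cn g v = 1 := by rw [← map_mul, D.el v hv, map_one]
  have h4 : Commute (cn g v) t := by
    rw [Commute, SemiconjBy, ← inv_eq_of_mul_eq_one_right h2, mul_inv_rev, inv_eq_of_mul_eq_one_right h3, D.h.ti]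
  rw [← cn_eq.2 c] at h4
  exact D.p.le (n v (D.p.ker v hv (h4.of_map (cn g).injective)))

end Dv

/-- UTA -/
theorem Fr0.pv (h : Fr0 L E F t σ ρ φ) (p : Pre L E V t σ) : Pv L E F V t σ ρ :=
  have D : Dv L E F V t σ ρ φ := ⟨h, p⟩
  { p with
    el := D.el
    nm := fun _ => D.nm
    dec := fun _ hv => by
      obtain ⟨a, ha, c, x⟩ := D.dec hv
      exact ⟨a, ha, cn_eq.1 c, x⟩
    fσ := D.fσ
    cF := fun _ hx c => ⟨D.cF hx c, (D.tau_Z hx c).2⟩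
    comF := fun _ hv _ hf => D.comF hv hf
    ontoZ := fun _ hz => D.liftZ hz }

end CfsgLib.StdL
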