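import Mathlib
import Cfsg.Agent.Lib.StdL.Fr
import Cfsg.Agent.Lib.StdL.Dbl
import Cfsg.Agent.Lib.StdL.UtA
import Cfsg.Agent.Lib.StdL.UtB
import Cfsg.Agent.Lib.StdL.SplA
import Cfsg.Agent.Lib.StdL.SplB
import Cfsg.Agent.Lib.StdL.JsC
import Cfsg.Agent.Lib.StdL.Par
import Cfsg.Agent.Lib.StdL.Gam
import Cfsg.Agent.Lib.StdL.Out
import Cfsg.Agent.Lib.StdL.End
import Cfsg.Agent.Lib.StdL.LiftB
import Cfsg.Agent.Lib.StdExc.RkQ

/-!
# Standard subgroups of type `M22`: the theorem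
-/

set_option autoImplicit false

namespace CfsgLib.StdL

open Subgroup Cfsg CfsgLib.Tech
open CfsgLib.StdInt hiding cj mem_cj

variable {G : Type*} [Group G] [Finite G]

theorem Fr0.false {L E F : Subgroup G} {t σ ρ φ : G} (h : Fr0 L E F t σ ρ φ)
    (phi : ∃ a ∈ PP L E (E ⊔ F), a * φ * a⁻¹ ∈ F) (hs : IsSimpleGroup (normalClosure (L : Set G)))
    (hX : ∀ M : Subgroup (normalClosure (L : Set G)), M.index ≠ 2) : False := by
  obtain ⟨V, hV⟩ := h.exists_pre
  obtain ⟨W, hW⟩ := h.symm.exists_pre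
  have u := h.ut (h.pv hV) (h.symm.pv hW)
  obtain ⟨a, ha, b, hb, a1, b1, a2, b2, ab, ψ, hψ, a3, b3⟩ := h.exists_gen u
  obtain ⟨A, B, s, h1, h2⟩ := h.exists_sp0 u ha hb a1 b1 a2 b2 ab hψ a3 b3
  rcases hψ with rfl | rfl
  · have s : Sp L E F A B t σ ρ ψ := ⟨s, h1, h2⟩
    obtain ⟨p, d⟩ := s.js.exists_pd s.pe s.symm.pe phi
    exact d.fin (d.out hX) hs
  · exact s.not_field h1 h2

theorem main (hF : IsSimpleGroup (generalizedFittingSubgroup G)) (hF' : ¬IsMulCommutative (generalizedFittingSubgroup G))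
    {L : Subgroup G} (hL : IsStandardSubgroup L) {M : Type*} [Group M] (e : L ⧸ oddCore L ≃* M)
    (hs : IsSimpleGroup M) (nab : ¬IsMulCommutative M) (g : StdW.GoodW M) {E F : Subgroup M} {σ ρ φ : M}
    (k : KD E F σ ρ φ) : False := by
  let π : L →* M := e.toMonoidHom.comp (QuotientGroup.mk' _)
  have surj : Function.Surjective π := e.surjective.comp (QuotientGroup.mk'_surjective _)
  have kerO : ∀ x, π x = 1 ↔ x ∈ oddCore L := fun x => by
    simp [π]
  have cen : center M = ⊥ := (inferInstance : (center M).Normal).eq_bot_or_eq_top.resolve_right fun e =>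
    nab ⟨⟨fun a b => mem_center_iff.1 (e.ge (mem_top b)) a⟩⟩
  have ker : ∀ x, π x = 1 ↔ x ∈ center L := fun x => ⟨fun h => by
    rcases Comp.qs_normal hL.1 (oddCore L) inferInstance with h1 | h1
    · obtain ⟨m, hm⟩ := exists_ne (1 : M)
      obtain ⟨y, rfl⟩ := surj m
      exact absurd ((kerO y).2 (h1.ge (mem_top y))) hm
    · exact h1 ((kerO x).1 h), fun h => mem_bot.1 (cen.le (mem_center_iff.2 fun m => by
      obtain ⟨y, rfl⟩ := surj m
      rw [← map_mul, ← map_mul, mem_center_iff.1 h]))⟩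
  have x : Ext π := ⟨surj, ker, fun x hx => odd_of_mem (Core.odd_card_oddCore L) ((kerO x).1 ((ker x).2 hx)),
    hL.1.1.commutator_eq_top, cen⟩
  obtain ⟨E', F', σ', ρ', φ', k'⟩ := x.kd k
  obtain ⟨t, w⟩ := StdW.exists_wr' hF hF' hL (x.goodW g) k'.hx
  obtain ⟨h, phi⟩ := fr0 (x.goodW g) k' w
  have := Comp.fstar_normal (G := G)
  have eq : normalClosure (L : Set G) = generalizedFittingSubgroup G :=
    le_antisymm (normalClosure_le_normal (StdW.le_fstar hF hF' hL)) (StdW.fstar_le hF inferInstance fun e =>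
      h.exZ.elim fun z hz => hz.2 (mem_bot.1 (e.le (subset_normalClosure (h.EL hz.1.1)))))
  refine h.false phi (eq ▸ hF) (eq ▸ StdExc.index_ne_two_of_perfect ⟨?_⟩)
  exact (inferInstance : (commutator _).Normal).eq_bot_or_eq_top.resolve_left fun e => hF' ⟨⟨fun x y =>
    commutatorElement_eq_one_iff_mul_comm.1 (mem_bot.1 (e.le (commutator_mem_commutator (mem_top x) (mem_top y))))⟩⟩

end CfsgLib.StdL
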